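import Groth.Agent.L26.Torelli.Sign

/-!
# Uniqueness in the Torelli theorem
-/

set_option autoImplicit false
set_option linter.style.haveILetI false
set_option backward.isDefEq.respectTransparency false
set_option backward.isDefEq.respectTransparency.types false

universe u

open CategoryTheory CategoryTheory.Limits AlgebraicGeometry MonoidalCategory CartesianMonoidalCategory MonObj GrpObj

noncomputable section

namespace Groth.Agent.L26.Torelli

open Groth.Agent.L26.JacRat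
attribute [local instance] Groth.L08.Cube.clMonoid

theorem setup_curve (k : Type u) [Field k] (C : Scheme.{u}) [C.Over (Spec (CommRingCat.of k))]
    [IsProper (C ↘ Spec (CommRingCat.of k))] [Smooth (C ↘ Spec (CommRingCat.of k))]
    [GeometricallyConnected (C ↘ Spec (CommRingCat.of k))] : IsIntegral C := by
  haveI : Subsingleton ↥(Spec (CommRingCat.of k)) := inferInstanceAs (Subsingleton (PrimeSpectrum k))
  haveI : ConnectedSpace ↥(Spec (CommRingCat.of k)) := inferInstanceAs (ConnectedSpace (PrimeSpectrum k))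
  haveI : ConnectedSpace ↥C := GeometricallyConnected.connectedSpace_of_subsingleton (C ↘ Spec (CommRingCat.of k))
  exact Groth.L12.HypSq.isIntegral (k := k) (C := C)

variable (k : Type u) [Field k] [IsAlgClosed k]
  {C : Scheme.{u}} [C.Over (Spec (CommRingCat.of k))] [IsProper (C ↘ Spec (CommRingCat.of k))]
  [Smooth (C ↘ Spec (CommRingCat.of k))] [GeometricallyConnected (C ↘ Spec (CommRingCat.of k))]
  (hdim : topologicalKrullDim C = 1)
  {C' : Scheme.{u}} [C'.Over (Spec (CommRingCat.of k))] [IsProper (C' ↘ Spec (CommRingCat.of k))]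
  [Smooth (C' ↘ Spec (CommRingCat.of k))] [GeometricallyConnected (C' ↘ Spec (CommRingCat.of k))]
  (hdim' : topologicalKrullDim C' = 1) (hg : 2 ≤ Curv2.genus k C')
  (σ' : Spec (CommRingCat.of k) ⟶ C') (hσ' : σ' ≫ (C' ↘ Spec (CommRingCat.of k)) = 𝟙 _)
  {J' : Over (Spec (CommRingCat.of k))} [GrpObj J'] [IsCommMonObj J']
  {ψ' : (ModFun.PicDeg (C' ↘ Spec (CommRingCat.of k)) 0).Hom ⊤ J'}
  (hJ' : Jac.IsJacobian (C' ↘ Spec (CommRingCat.of k)) ⊤ J' ψ')
  {j' : Over.mk (C' ↘ Spec (CommRingCat.of k)) ⟶ J'} (hj' : Jac.IsAbelJacobiAt (C' ↘ Spec (CommRingCat.of k)) σ' ψ' j')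
  {w : Over.mk (C ↘ Spec (CommRingCat.of k)) ⟶ J'} {α₁ α₂ : C ≅ C'}
  {hα₁ : α₁.hom ≫ (C' ↘ Spec (CommRingCat.of k)) = (C ↘ Spec (CommRingCat.of k))}
  {hα₂ : α₂.hom ≫ (C' ↘ Spec (CommRingCat.of k)) = (C ↘ Spec (CommRingCat.of k))}
  {c₁ c₂ : 𝟙_ (Over (Spec (CommRingCat.of k))) ⟶ J'} {s₁ s₂ : ℤ}
  (h₁ : (Over.homMk α₁.hom hα₁ : Over.mk (C ↘ Spec (CommRingCat.of k)) ⟶ Over.mk (C' ↘ Spec (CommRingCat.of k))) ≫ j' =
    w ^ s₁ * (toUnit (Over.mk (C ↘ Spec (CommRingCat.of k))) ≫ c₁))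
  (h₂ : (Over.homMk α₂.hom hα₂ : Over.mk (C ↘ Spec (CommRingCat.of k)) ⟶ Over.mk (C' ↘ Spec (CommRingCat.of k))) ≫ j' =
    w ^ s₂ * (toUnit (Over.mk (C ↘ Spec (CommRingCat.of k))) ≫ c₂))

include hdim hdim' hg hσ' hJ' hj' h₁ h₂

theorem unique_of_sign_eq (hs : s₁ = s₂) : α₁ = α₂ ∧ c₁ = c₂ := by
  subst hs
  haveI := setup_curve k C
  haveI := setup_curve k C'
  haveI := Groth.L21.SmoothCurve.smoothOfRelativeDimension_one (C' ↘ Spec (CommRingCat.of k)) hdim'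
  obtain ⟨-, M, -⟩ := Theta.exists_model (k := k) (σ := σ') (hσ := hσ') hdim' hJ' hj'
  have hc : c₁ = c₂ := trans_eq M hg hdim h₁ h₂
  refine ⟨?_, hc⟩
  subst hc
  obtain ⟨J₀, ξ, hJ₀, hp, hs, hi⟩ := exists_jacobian k σ' hσ'
  obtain ⟨m, n, hmn, -, -, -, -, hjm⟩ := exists_iso_coarse hJ₀ hJ'
  have e : (Over.homMk α₁.hom hα₁ : Over.mk (C ↘ Spec (CommRingCat.of k)) ⟶ Over.mk (C' ↘ Spec (CommRingCat.of k))) ≫ j' ≫ n =
      (Over.homMk α₂.hom hα₂ : Over.mk (C ↘ Spec (CommRingCat.of k)) ⟶ Over.mk (C' ↘ Spec (CommRingCat.of k))) ≫ j' ≫ n := by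
    rw [← Category.assoc, h₁, ← h₂, Category.assoc]
  rw [hjm j' hj', Category.assoc, hmn, Category.comp_id] at e
  haveI := mono_jmap (σ := σ') (hσ := hσ') hJ₀ (one_le_fiberRank (genusEq k) (by omega))
  exact Iso.ext ((cancel_mono (jmap σ' hσ' hJ₀).left).1 (congrArg CommaMorphism.left e))

theorem exists_pencil_of_sign_ne (hs : s₂ = -s₁) :
    ∃ L : C.Modules, PicF.IsInvertible L ∧ Curv2.deg k C L 1 = 2 ∧ Module.finrank k (Coh.HH C L 0) = 2 := by
  haveI := setup_curve k C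
  haveI := setup_curve k C'
  haveI := Groth.L21.SmoothCurve.smoothOfRelativeDimension_one (C' ↘ Spec (CommRingCat.of k)) hdim'
  obtain ⟨-, M, -⟩ := Theta.exists_model (k := k) (σ := σ') (hσ := hσ') hdim' hJ' hj'
  obtain ⟨L, hL, hLd, hLh⟩ := exists_pencil M (by omega) hdim hs h₁ h₂
  haveI := Groth.L21.RR.isNoetherian_of_proper (X := C') k
  have sq := Groth.L21.RR.isPullback_of_iso (k := k) α₁ hα₁
  exact ⟨(Scheme.Modules.pullback α₁.hom).obj L, Groth.L18.Ample.isInvertible_pullback α₁.hom hL,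
    (Groth.L21.RR.deg_pullback α₁.hom sq hL).trans hLd,
    (Groth.L21.RR.h_pullback α₁.hom sq (Groth.L16.ProperFinite.isCoh_of_isInvertible hL) 0).trans hLh⟩

end Groth.Agent.L26.Torelli
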