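import Groth.Agent.L26.Theta.Model

/-!
# Curves of genus at least two have few pencils of degree two
-/

set_option autoImplicit false
set_option linter.style.haveILetI false
set_option linter.unusedSectionVars false
set_option backward.isDefEq.respectTransparency false

universe u

open CategoryTheory CategoryTheory.Limits AlgebraicGeometry

noncomputable section

namespace Groth.Agent.L26.Torelli

open Groth.Agent.L26.Theta Groth.Agent.L26.PicRep
open Groth.L21.RR (h st ptI twist_point twι isMinusPt_twι)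
attribute [local instance] Groth.L08.Cube.clMonoid

variable {k : Type u} [Field k] [IsAlgClosed k] {X : Scheme.{u}} [IsIntegral X]
  [X.Over (Spec (CommRingCat.of k))] [IsProper (X ↘ Spec (CommRingCat.of k))]
  [Smooth (X ↘ Spec (CommRingCat.of k))] (hd : topologicalKrullDim X = 1)

variable (k) in
/-- The class `x` has a section which does not vanish at `Q`. -/
def Gen (x : (PicF.Cl X)ˣ) (Q : Pt X) : Prop :=
  h0c k ((x * uP (k := k) hd Q : (PicF.Cl X)ˣ) : PicF.Cl X) + 1 = h0c k (x : PicF.Cl X)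

theorem Gen.add_point {x : (PicF.Cl X)ˣ} (hx : x ∈ invU X) {Q P : Pt X} (hPQ : P ≠ Q) (h : Gen k hd x Q) :
    Gen k hd (x * (uP (k := k) hd P)⁻¹) Q := by
  have hy : x * (uP (k := k) hd P)⁻¹ ∈ invU X := (invU X).mul_mem hx ((invU X).inv_mem (uP_mem hd P))
  obtain ⟨L, hL, hLi⟩ := exists_mod hy
  let M := CohB1.tensorMod L (ptI P.1 P.2)
  have hMi : PicF.IsInvertible M := (twist_point k hd hLi P.2).1
  have hM : PicF.cl M = (x : PicF.Cl X) := by
    show PicF.cl L * PicF.cl (ptI P.1 P.2) = _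
    rw [hL, ← uP_val (k := k) hd P, ← Units.val_mul, inv_mul_cancel_right]
  unfold Gen at h ⊢
  rw [Units.val_mul, ← hM, uP_val] at h
  obtain ⟨φ, hφ⟩ := (twist_point k hd hMi Q.2).2.2.2.2.2.1 h
  have h' := (twist_point k hd hLi Q.2).2.2.2.2.2.2 ⟨φ ≫ twι L _,
    ((isMinusPt_twι hLi P.2).surjective_comp_iff (fun e => hPQ (Subtype.ext e.symm)) φ).2 hφ⟩
  rw [Units.val_mul, ← hL, uP_val]
  exact h'

theorem Gen.add_points {x : (PicF.Cl X)ˣ} (hx : x ∈ invU X) {Q : Pt X} (h : Gen k hd x Q) :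
    ∀ {n : ℕ} (s : Fin n → Pt X), (∀ i, s i ≠ Q) → Gen k hd (x * (∏ i, uP (k := k) hd (s i))⁻¹) Q
  | 0, s, _ => by rwa [Fin.prod_univ_zero, inv_one, mul_one]
  | n + 1, s, hs => by
    have h1 := (Gen.add_points hx h (fun i => s i.succ) fun i => hs i.succ).add_point hd
      ((invU X).mul_mem hx (effU_mem hd _)) (hs 0)
    rwa [Fin.prod_univ_succ, mul_inv, ← mul_assoc, mul_right_comm]

include k hd

theorem exists_avoid {n : ℕ} (s : Fin n → Pt X) : ∃ R : Pt X, ∀ i, s i ≠ R := by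
  haveI : JacobsonSpace X := LocallyOfFiniteType.jacobsonSpace (X ↘ Spec (CommRingCat.of k))
  have hC : IsClosed (⋃ i, ({(s i).1} : Set X)) := isClosed_iUnion_of_finite fun i => (s i).2
  have hne : ((⋃ i, ({(s i).1} : Set X))ᶜ).Nonempty := ⟨genericPoint X, by
    simp only [Set.mem_compl_iff, Set.mem_iUnion, Set.mem_singleton_iff, not_exists]
    exact fun i e => Groth.L21.RR.ne_genericPoint_of_isClosed hd (s i).2 e.symm⟩
  obtain ⟨R, hR, hRc⟩ := nonempty_inter_closedPoints hne hC.isOpen_compl.isLocallyClosed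
  exact ⟨⟨R, hRc⟩, fun i e => hR (Set.mem_iUnion.2 ⟨i, (congrArg Subtype.val e).symm⟩)⟩

theorem exists_distinct (Q : Pt X) : ∀ n : ℕ, ∃ s : Fin n → Pt X, Function.Injective s ∧ ∀ i, s i ≠ Q
  | 0 => ⟨Fin.elim0, fun i => i.elim0, fun i => i.elim0⟩
  | n + 1 => by
    obtain ⟨s, hs, hQ⟩ := exists_distinct Q n
    obtain ⟨R, hR⟩ := exists_avoid (k := k) hd (Fin.cons Q s : Fin (n + 1) → Pt X)
    refine ⟨Fin.cons R s, Fin.cons_injective_iff.2 ⟨?_, hs⟩, fun i => ?_⟩
    · rintro ⟨i, hi⟩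
      exact hR i.succ (by rw [Fin.cons_succ]; exact hi)
    · induction i using Fin.cases with
      | zero => rw [Fin.cons_zero]; exact fun e => hR 0 (by rw [Fin.cons_zero]; exact e.symm)
      | succ i => rw [Fin.cons_succ]; exact hQ i

theorem h0c_eq_zero_of_neg {x : (PicF.Cl X)ˣ} (hx : x ∈ invU X) (P : Pt X) {m : ℕ}
    (hdeg : degc k (x : PicF.Cl X) = -((m : ℤ) + 1)) : h0c k (x : PicF.Cl X) = 0 := by
  have h0 := h0c_lt_of_notMem (k := k) hd (Fin.elim0 : Fin 0 → Pt X) P fun i => i.elim0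
  rw [Fin.prod_univ_zero, inv_one, one_mul, Units.val_one, h0c_one] at h0
  by_contra hpos
  let c : Fin (m + 1) → Pt X := fun _ => P
  have hy : x * (∏ i, uP (k := k) hd (c i))⁻¹ ∈ invU X := (invU X).mul_mem hx (effU_mem hd c)
  have hy0 : degc k ((x * (∏ i, uP (k := k) hd (c i))⁻¹ : (PicF.Cl X)ˣ) : PicF.Cl X) = ((0 : ℕ) : ℤ) := by
    rw [degc_mul hd hx (effU_mem hd c), hdeg, degc_eff hd c]
    push_cast
    ring
  obtain ⟨s, hs⟩ := exists_eff (k := k) hd hy hy0 ((Nat.one_le_iff_ne_zero.2 hpos).trans (h0c_le_add_eff hd hx c))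
  rw [Fin.prod_univ_zero, inv_one, mul_inv_eq_one] at hs
  have h1 := h0c_le_add_eff (k := k) hd hx (fun _ : Fin m => P)
  subst hs
  simp only [c, Finset.prod_const, Finset.card_univ, Fintype.card_fin] at h1 hpos
  rw [pow_succ, mul_comm (_ ^ m), mul_inv_cancel_right] at h1
  rw [pow_succ, mul_comm (_ ^ m)] at hpos
  omega

theorem h0c_point_le_one (hg : 1 ≤ Curv2.genus k X) (Z : Pt X) :
    h0c k (((uP (k := k) hd Z)⁻¹ : (PicF.Cl X)ˣ) : PicF.Cl X) ≤ 1 := by
  have hm := (invU X).inv_mem (uP_mem (k := k) hd Z)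
  have hdeg : degc k (((uP (k := k) hd Z)⁻¹ : (PicF.Cl X)ˣ) : PicF.Cl X) = 1 := by
    rw [degc_inv hd (uP_mem hd Z), degc_uP]; norm_num
  obtain ⟨M, hM, hMi⟩ := exists_mod hm
  rw [← hM, h0c_cl]
  rw [← hM, degc_cl] at hdeg
  have h1 := Groth.L21.Duality.h0_le_deg (k := k) hd.le (Groth.L21.RR.h0_eq_one_of_isAlgClosed (X := X) k) hg hMi
    (hdeg.symm ▸ Int.one_pos)
  omega

/-- In genus at least two, no point lies in a pencil of degree two with all but one other point. -/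
theorem genus_le_one_of_pencils (Z Q : Pt X)
    (hp : ∀ W : Pt X, W ≠ Q → 2 ≤ h0c k (((uP (k := k) hd Z * uP (k := k) hd W)⁻¹ : (PicF.Cl X)ˣ) : PicF.Cl X)) :
    Curv2.genus k X ≤ 1 := by
  by_contra hlt
  push Not at hlt
  have hg : 1 ≤ Curv2.genus k X := by omega
  have hgen : ∀ W : Pt X, W ≠ Q → Gen k hd (uP (k := k) hd Z * uP (k := k) hd W)⁻¹ W := fun W hW => by
    have h2 := hp W hW
    have hm : (uP (k := k) hd Z * uP (k := k) hd W)⁻¹ ∈ invU X :=
      (invU X).inv_mem ((invU X).mul_mem (uP_mem hd Z) (uP_mem hd W))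
    have h3 := (twist_uP (k := k) hd hm W).2.2
    have h4 : (uP (k := k) hd Z * uP (k := k) hd W)⁻¹ * uP (k := k) hd W = (uP (k := k) hd Z)⁻¹ := by
      rw [mul_inv, inv_mul_cancel_right]
    unfold Gen
    rw [h4] at h3 ⊢
    have h5 := h0c_point_le_one (k := k) hd hg Z
    omega
  have key : ∀ {n : ℕ} (s : Fin n → Pt X), Function.Injective s → (∀ i, s i ≠ Q) →
      n + 1 ≤ h0c k (((∏ i, uP (k := k) hd ((Fin.cons Z s : Fin (n + 1) → Pt X) i))⁻¹ : (PicF.Cl X)ˣ) : PicF.Cl X) := by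
    intro n
    induction n with
    | zero => exact fun s _ _ => one_le_h0c_eff (k := k) hd _
    | succ n ih =>
      intro s hs hQ
      have h1 := ih (fun i => s i.succ) (hs.comp (Fin.succ_injective _)) fun i => hQ i.succ
      have h2 := (hgen (s 0) (hQ 0)).add_points hd
        ((invU X).inv_mem ((invU X).mul_mem (uP_mem hd Z) (uP_mem hd (s 0)))) (fun i => s i.succ)
        fun i e => Fin.succ_ne_zero i (hs e)
      unfold Gen at h2
      have e1 : (uP (k := k) hd Z * uP (k := k) hd (s 0))⁻¹ * (∏ i : Fin n, uP (k := k) hd (s i.succ))⁻¹ =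
          (∏ i, uP (k := k) hd ((Fin.cons Z s : Fin _ → Pt X) i))⁻¹ := by
        conv_rhs => rw [Fin.prod_univ_succ]; simp only [Fin.cons_succ, Fin.cons_zero]; rw [Fin.prod_univ_succ]
        rw [← mul_inv, mul_assoc]
      have e2 : (∏ i, uP (k := k) hd ((Fin.cons Z s : Fin _ → Pt X) i))⁻¹ * uP (k := k) hd (s 0) =
          (∏ i, uP (k := k) hd ((Fin.cons Z fun i => s i.succ : Fin (n + 1) → Pt X) i))⁻¹ := by
        rw [← e1, Fin.prod_univ_succ (f := fun i => uP (k := k) hd ((Fin.cons Z fun i => s i.succ : Fin (n + 1) → Pt X) i))]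
        simp only [Fin.cons_succ, Fin.cons_zero]
        rw [mul_inv (uP (k := k) hd Z) (uP (k := k) hd (s 0)), mul_inv (uP (k := k) hd Z), mul_right_comm,
          inv_mul_cancel_right]
      rw [e1, e2] at h2
      omega
  obtain ⟨s, hs, hQ⟩ := exists_distinct (k := k) hd Q (2 * Curv2.genus k X)
  have h1 := key s hs hQ
  have hx : (∏ i, uP (k := k) hd ((Fin.cons Z s : Fin _ → Pt X) i))⁻¹ ∈ invU X := effU_mem hd _
  have hdeg := degc_eff (k := k) hd (Fin.cons Z s : Fin _ → Pt X)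
  have hK := h0c_eq_zero_of_neg (k := k) hd ((invU X).mul_mem (uK_mem (k := k) hd) ((invU X).inv_mem hx)) Z (m := 2)
    (by rw [degc_mul hd (uK_mem hd) ((invU X).inv_mem hx), degc_inv hd hx, hdeg, degc_uK]; push_cast; ring)
  have hrr := rr (k := k) hd hx
  rw [hK, hdeg] at hrr
  push_cast at hrr
  omega

end Groth.Agent.L26.Torelli
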