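import Groth.Agent.L26.Torelli.Pencils
import Groth.Agent.L26.JacRat.Mono

/-!
# Two isomorphisms of curves inducing the same map of Jacobians up to translation
-/

set_option autoImplicit false
set_option linter.style.haveILetI false
set_option linter.unusedSectionVars false
set_option backward.isDefEq.respectTransparency false
set_option backward.isDefEq.respectTransparency.types false

universe u

open CategoryTheory CategoryTheory.Limits AlgebraicGeometry MonoidalCategory CartesianMonoidalCategory MonObj GrpObj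

noncomputable section

namespace Groth.Agent.L26.Torelli

open Groth.Agent.L26.Theta Groth.Agent.L26.PicRep Groth.Agent.L26.JacRat
attribute [local instance] Groth.L08.Cube.clMonoid

variable {k : Type u} [Field k] [IsAlgClosed k]
  {C : Scheme.{u}} [C.Over (Spec (CommRingCat.of k))] [IsProper (C ↘ Spec (CommRingCat.of k))]
  [Smooth (C ↘ Spec (CommRingCat.of k))] [IsIntegral C]
  {X : Scheme.{u}} [X.Over (Spec (CommRingCat.of k))] [IsProper (X ↘ Spec (CommRingCat.of k))]
  [Smooth (X ↘ Spec (CommRingCat.of k))] [IsIntegral X]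

/-- The image of a closed point. -/
def mapPt (α : C ≅ X) (hα : α.hom ≫ (X ↘ Spec (CommRingCat.of k)) = (C ↘ Spec (CommRingCat.of k))) (P : Pt C) : Pt X :=
  ofSec (secPt k P ≫ α.hom) (by rw [Category.assoc, hα, secPt_comp])

section MapPt

variable (α : C ≅ X) (hα : α.hom ≫ (X ↘ Spec (CommRingCat.of k)) = (C ↘ Spec (CommRingCat.of k)))

theorem ptOf_mapPt (P : Pt C) : ptOf k (mapPt α hα P) = ptOf k P ≫ (Over.homMk α.hom hα : Over.mk (C ↘ Spec (CommRingCat.of k)) ⟶ Over.mk (X ↘ Spec (CommRingCat.of k))) :=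
  Over.OverMorphism.ext (secPt_ofSec (k := k) (X := X) (secPt k P ≫ α.hom) _)

theorem mapPt_injective : Function.Injective (mapPt (k := k) α hα) := fun P R e => by
  have e1 := congrArg (secPt k) e
  rw [mapPt, mapPt, secPt_ofSec, secPt_ofSec, cancel_mono] at e1
  have e2 : ofSec (secPt k P) (secPt_comp P) = ofSec (secPt k R) (secPt_comp R) :=
    Subtype.ext (congrArg (fun s : Spec (CommRingCat.of k) ⟶ C => s (IsLocalRing.closedPoint k)) e1)
  rwa [ofSec_secPt, ofSec_secPt] at e2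

theorem mapPt_surjective : Function.Surjective (mapPt (k := k) α hα) := fun W => by
  have hi : α.inv ≫ (C ↘ Spec (CommRingCat.of k)) = (X ↘ Spec (CommRingCat.of k)) := by rw [← hα, Iso.inv_hom_id_assoc]
  refine ⟨ofSec (secPt k W ≫ α.inv) (by rw [Category.assoc, hi, secPt_comp]), ?_⟩
  refine Eq.trans ?_ (ofSec_secPt (k := k) W)
  refine Subtype.ext (congrArg (fun s : Spec (CommRingCat.of k) ⟶ X => s (IsLocalRing.closedPoint k)) ?_)
  show secPt k (ofSec _ _) ≫ α.hom = secPt k W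
  rw [secPt_ofSec, Category.assoc, Iso.inv_hom_id, Category.comp_id]

end MapPt

variable {hd : topologicalKrullDim X = 1}

/-- An equation of degree-two classes with a point not in both supports gives a pencil. -/
theorem two_le_h0c (P₁ P₂ R₁ R₂ : Pt X)
    (e : uP (k := k) hd P₁ * uP (k := k) hd P₂ = uP (k := k) hd R₁ * uP (k := k) hd R₂)
    (h₁ : P₁ ≠ R₁) (h₂ : P₁ ≠ R₂) :
    2 ≤ h0c k (((uP (k := k) hd P₁ * uP (k := k) hd P₂)⁻¹ : (PicF.Cl X)ˣ) : PicF.Cl X) := by
  have h3 := h0c_lt_of_notMem (k := k) hd ![R₁, R₂] P₁ fun i => by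
    fin_cases i
    · exact h₁.symm
    · exact h₂.symm
  have h4 := one_le_h0c_eff (k := k) hd ![P₂]
  rw [Fin.prod_univ_two] at h3
  rw [Fin.prod_univ_one] at h4
  simp only [Matrix.cons_val_zero, Matrix.cons_val_one] at h3 h4
  rw [← e] at h3
  rw [show (uP (k := k) hd P₁ * uP (k := k) hd P₂)⁻¹ * uP (k := k) hd P₁ = (uP (k := k) hd P₂)⁻¹ by
    rw [_root_.mul_inv_rev, inv_mul_cancel_right]] at h3
  omega

variable {J : Over (Spec (CommRingCat.of k))} [GrpObj J] [IsCommMonObj J] {O : Pt X}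
  {j : Over.mk (X ↘ Spec (CommRingCat.of k)) ⟶ J} (M : Model hd O j)

/-- The class of a translation. -/
def trans' (c : 𝟙_ (Over (Spec (CommRingCat.of k))) ⟶ J) : (PicF.Cl X)ˣ := M.cls (toUnit (onePt k) ≫ c)

theorem trans'_injective : Function.Injective (trans' M) := fun a b e => by
  haveI : IsIso (toUnit (onePt k)) := ⟨Over.homMk (𝟙 _) (by simp), Over.OverMorphism.ext (by simp),
    toUnit_unique _ _⟩
  exact (cancel_epi _).1 (M.inj e)

variable (α : C ≅ X) (hα : α.hom ≫ (X ↘ Spec (CommRingCat.of k)) = (C ↘ Spec (CommRingCat.of k)))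
  (w : Over.mk (C ↘ Spec (CommRingCat.of k)) ⟶ J) (c : 𝟙_ (Over (Spec (CommRingCat.of k))) ⟶ J) (s : ℤ)

/-- The equation of classes attached to a point. -/
theorem cls_mapPt (h : (Over.homMk α.hom hα : Over.mk (C ↘ Spec (CommRingCat.of k)) ⟶ Over.mk (X ↘ Spec (CommRingCat.of k))) ≫ j = w ^ s * (toUnit (Over.mk (C ↘ Spec (CommRingCat.of k))) ≫ c))
    (P : Pt C) :
    uP (k := k) hd O * (uP (k := k) hd (mapPt α hα P))⁻¹ = M.cls (ptOf k P ≫ w) ^ s * trans' M c := by
  rw [← M.cls_pt, ptOf_mapPt, Category.assoc, h, MonObj.comp_mul, GrpObj.comp_zpow, map_mul, map_zpow,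
    ← Category.assoc (ptOf k P) (toUnit _) c, toUnit_unique (ptOf k P ≫ toUnit _) (toUnit _), trans']

variable {α hα w c s}

include M in
/-- In genus at least two the translations agree. -/
theorem trans_eq (hg : 2 ≤ Curv2.genus k X) (hdC : topologicalKrullDim C = 1) {α' : C ≅ X}
    {hα' : α'.hom ≫ (X ↘ Spec (CommRingCat.of k)) = (C ↘ Spec (CommRingCat.of k))}
    {c' : 𝟙_ (Over (Spec (CommRingCat.of k))) ⟶ J}
    (h : (Over.homMk α.hom hα : Over.mk (C ↘ Spec (CommRingCat.of k)) ⟶ Over.mk (X ↘ Spec (CommRingCat.of k))) ≫ j = w ^ s * (toUnit (Over.mk (C ↘ Spec (CommRingCat.of k))) ≫ c))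
    (h' : (Over.homMk α'.hom hα' : Over.mk (C ↘ Spec (CommRingCat.of k)) ⟶ Over.mk (X ↘ Spec (CommRingCat.of k))) ≫ j = w ^ s * (toUnit (Over.mk (C ↘ Spec (CommRingCat.of k))) ≫ c')) : c = c' := by
  by_contra hc
  have key : ∀ P, (uP (k := k) hd (mapPt α hα P))⁻¹ * uP (k := k) hd (mapPt α' hα' P) = trans' M c * (trans' M c')⁻¹ :=
    fun P => by
      have e := congrArg₂ (fun a b => a * b⁻¹) (cls_mapPt M α hα w c s h P) (cls_mapPt M α' hα' w c' s h' P)
      simpa [_root_.mul_comm, _root_.mul_left_comm, _root_.mul_assoc] using e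
  have hne : ∀ P, mapPt α hα P ≠ mapPt α' hα' P := fun P e => hc (trans'_injective M (by
    have := key P
    rw [e, inv_mul_cancel] at this
    exact mul_inv_eq_one.1 this.symm))
  obtain ⟨P, -⟩ := exists_avoid (k := k) hdC (Fin.elim0 : Fin 0 → Pt C)
  refine absurd (genus_le_one_of_pencils (k := k) hd (mapPt α' hα' P) (mapPt α hα P) fun W hW => ?_) (by omega)
  obtain ⟨R, rfl⟩ := mapPt_surjective α hα W
  refine two_le_h0c _ _ (mapPt α hα P) (mapPt α' hα' R) ?_ (hne P).symm fun e => hW ?_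
  · have e2 := (key P).trans (key R).symm
    rw [inv_mul_eq_iff_eq_mul] at e2
    rw [e2, _root_.mul_assoc, _root_.mul_comm (uP (k := k) hd (mapPt α hα R))⁻¹, inv_mul_cancel_right]
  · rw [mapPt_injective α' hα' e]

include M in
/-- Opposite signs give a pencil of degree two. -/
theorem exists_pencil (hg : 1 ≤ Curv2.genus k X) (hdC : topologicalKrullDim C = 1) {α' : C ≅ X}
    {hα' : α'.hom ≫ (X ↘ Spec (CommRingCat.of k)) = (C ↘ Spec (CommRingCat.of k))}
    {c' : 𝟙_ (Over (Spec (CommRingCat.of k))) ⟶ J} {s' : ℤ} (hs : s' = -s)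
    (h : (Over.homMk α.hom hα : Over.mk (C ↘ Spec (CommRingCat.of k)) ⟶ Over.mk (X ↘ Spec (CommRingCat.of k))) ≫ j = w ^ s * (toUnit (Over.mk (C ↘ Spec (CommRingCat.of k))) ≫ c))
    (h' : (Over.homMk α'.hom hα' : Over.mk (C ↘ Spec (CommRingCat.of k)) ⟶ Over.mk (X ↘ Spec (CommRingCat.of k))) ≫ j = w ^ s' * (toUnit (Over.mk (C ↘ Spec (CommRingCat.of k))) ≫ c')) :
    ∃ L : X.Modules, PicF.IsInvertible L ∧ Curv2.deg k X L 1 = 2 ∧ Module.finrank k (Coh.HH X L 0) = 2 := by
  subst hs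
  have key : ∀ P, (uP (k := k) hd (mapPt α hα P))⁻¹ * (uP (k := k) hd (mapPt α' hα' P))⁻¹ =
      trans' M c * trans' M c' * ((uP (k := k) hd O)⁻¹) ^ 2 := fun P => by
    have e := congrArg₂ (fun a b => a * b * ((uP (k := k) hd O)⁻¹) ^ 2)
      (cls_mapPt M α hα w c s h P) (cls_mapPt M α' hα' w c' (-s) h' P)
    simpa [pow_two, zpow_neg, _root_.mul_comm, _root_.mul_left_comm, _root_.mul_assoc] using e
  obtain ⟨P, -⟩ := exists_avoid (k := k) hdC (Fin.elim0 : Fin 0 → Pt C)
  obtain ⟨W, hW⟩ := exists_avoid (k := k) hd ![mapPt α hα P, mapPt α' hα' P]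
  obtain ⟨R, rfl⟩ := mapPt_surjective α hα W
  let x : (PicF.Cl X)ˣ := (uP (k := k) hd (mapPt α hα R) * uP (k := k) hd (mapPt α' hα' R))⁻¹
  have hx : x ∈ invU X := (invU X).inv_mem ((invU X).mul_mem (uP_mem hd _) (uP_mem hd _))
  have h2 : 2 ≤ h0c k (x : PicF.Cl X) := by
    refine two_le_h0c _ _ (mapPt α hα P) (mapPt α' hα' P) (inv_injective ?_) (hW 0).symm (hW 1).symm
    rw [_root_.mul_inv, _root_.mul_inv]
    exact (key R).trans (key P).symm
  have h3 : h0c k (x : PicF.Cl X) ≤ 2 := by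
    have := (twist_uP (k := k) hd hx (mapPt α hα R)).2.2
    rw [show x * uP (k := k) hd (mapPt α hα R) = (uP (k := k) hd (mapPt α' hα' R))⁻¹ by
      simp [x, _root_.mul_comm, _root_.mul_left_comm, _root_.mul_inv]] at this
    have := h0c_point_le_one (k := k) hd hg (mapPt α' hα' R)
    omega
  obtain ⟨L, hL, hLi⟩ := exists_mod hx
  refine ⟨L, hLi, ?_, ?_⟩
  · rw [← degc_cl, hL, degc_inv hd ((invU X).mul_mem (uP_mem hd _) (uP_mem hd _)),
      degc_mul hd (uP_mem hd _) (uP_mem hd _), degc_uP, degc_uP]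
    norm_num
  · show Groth.L21.RR.h k 0 L = 2
    rw [← h0c_cl, hL]
    omega

end Groth.Agent.L26.Torelli
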